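import Groth.Agent.L18.AmpleAvoid
import Groth.Agent.L21.Extend.Semilocal
import Groth.Agent.L16.Bivar.C1Class
import Groth.Agent.L22.C1.Trivial
import Groth.Agent.L22.Bundle.Sub
import Groth.Agent.L22.Cyc.Setup
import Groth.Agent.L03.Euler.Dim

/-!
Caps with first Chern classes lower the dimension of the support in the base.
-/

set_option autoImplicit false
set_option linter.style.haveILetI false
set_option linter.unusedSectionVars false
set_option maxHeartbeats 800000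
set_option backward.isDefEq.respectTransparency.types false
set_option backward.isDefEq.respectTransparency false

universe u

open CategoryTheory CategoryTheory.Limits AlgebraicGeometry TopologicalSpace Opposite

noncomputable section

namespace Groth.L22.C1Chain

open Groth.L18.Frame (IsFrame pull)

/-- An invertible module has a frame near finitely many points when there is an ample module. -/
theorem exists_frame_near {X : Scheme.{u}} {A : X.Modules} (hA : CohB1.IsAmple A) {L : X.Modules}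
    (hL : PicF.IsInvertible L) (E : Set X) (hE : E.Finite) :
    ∃ (U : X.Opens) (e : Γ(L, U)), E ⊆ U ∧ IsFrame L U e := by
  obtain ⟨n, s, hEs, -, hW⟩ := Groth.L18.Ample.exists_pow_genLocus_of_isAmple hA E hE ⊤ fun _ _ => trivial
  obtain ⟨Z, hZE, hZ, hEZ⟩ := Groth.L18.Ample.exists_maximal_specializations E hE
  let j := hW.fromSpec
  have hinv : PicF.IsInvertible (L.restrict j) :=
    Groth.L18.Ample.isInvertible_of_iso ((Scheme.Modules.restrictFunctorIsoPullback j).symm.app L)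
      (Groth.L18.Ample.isInvertible_pullback j hL)
  let S : Set (Spec (CommRingCat.of Γ(X, CohB1.genLocus _ s))) := j ⁻¹' (Z : Set X)
  obtain ⟨G, g, hSG, hg⟩ := Groth.L21.Extend.exists_isGen_near (L.restrict j) hinv S
    (Z.finite_toSet.preimage j.isOpenEmbedding.injective.injOn)
    (fun p hp q hq hpq => j.isOpenEmbedding.injective (hZ (j q) hq (j p) hp (hpq.map j.continuous)))
  refine ⟨j ''ᵁ G, g, fun e he => ?_, Groth.L21.Extend.exists_isGen_image j hg⟩
  obtain ⟨z, hz, hez⟩ := hEZ e he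
  refine hez.mem_open (j ''ᵁ G).2 ?_
  obtain ⟨p, hp⟩ : z ∈ Set.range j := by rw [hW.range_fromSpec]; exact hEs (hZE z hz)
  exact ⟨p, hSG (show j p ∈ (Z : Set X) by rw [hp]; exact hz), hp⟩

variable {X : Scheme.{u}} {δX : X → ℤ}

/-- The order of a frame is zero. -/
theorem secDivFun_frame_eq_zero {Y : Scheme.{u}} [IsLocallyNoetherian Y] {δ : Y → ℤ} (hδ : Cyc.IsDimFun Y δ)
    {L : Y.Modules} (hL : PicF.IsInvertible L) {U : Y.Opens} {e : Γ(L, U)} (he : IsFrame L U e) (ξ x : Y)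
    (hξ : ξ ∈ U) (hx : x ∈ U) :
    Cyc.secDivFun δ L ξ (Groth.L22.C1.mk L (L.presheaf.germ U ξ hξ e)) x = 0 := by
  unfold Cyc.secDivFun
  split_ifs with h
  · have h1 := Groth.L22.C1.secOrdAt_gen hδ hL h.1 h.2 (Groth.L22.C1.isGen_germ he hx) 1
    rw [one_smul, TopCat.Presheaf.germ_stalkSpecializes_apply, map_one] at h1
    rw [h1]
    have h2 := Groth.L22.Cyc.ordAt_of_isUnit hδ x ξ h.1 h.2 (a := 1) isUnit_one
    rwa [map_one] at h2
  · rfl

/-- The dimension of a closed subset missing the generic points of the components drops. -/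
theorem dim_add_one_le [NoetherianSpace X] {T T' : Set X} (hT : IsClosed T) (hT' : IsClosed T') (hsub : T' ⊆ T)
    {S : Set (Set X)} (hSc : ∀ C ∈ S, IsClosed C) (hSu : T = ⋃₀ S) (hSi : ∀ C ∈ S, IsIrreducible C)
    (h : ∀ C (hC : C ∈ S), (hSi C hC).genericPoint ∉ T') {e : ℕ}
    (he : topologicalKrullDim T' = (e : WithBot ℕ∞) ∨ (e : WithBot ℕ∞) ≤ topologicalKrullDim T') :
    ((e + 1 : ℕ) : WithBot ℕ∞) ≤ topologicalKrullDim T := by
  have h1 : (e : WithBot ℕ∞) ≤ topologicalKrullDim T' := he.elim (fun q => q.ge) id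
  obtain ⟨w, hw, hwd⟩ := Groth.L03.Euler.exists_point_dim_closure_ge hT' h1
  obtain ⟨C, hC, hwC⟩ := Set.mem_sUnion.1 (hSu.le (hsub hw))
  have hg := (hSi C hC).closure_genericPoint (hSc C hC)
  have h2 := Groth.L03.Euler.topologicalKrullDim_add_one_le (isClosed_closure (s := ({w} : Set X))) (hSi C hC)
    (closure_minimal (Set.singleton_subset_iff.2 hwC) (hSc C hC))
    (fun q => h C hC (closure_minimal (Set.singleton_subset_iff.2 hw) hT'
      (q ▸ hg.le (subset_closure rfl))))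
  have h3 := (add_le_add_left hwd 1).trans (h2.trans (Groth.L03.Euler.topologicalKrullDim_set_mono
    (hSu.ge.trans' (Set.subset_sUnion_of_mem hC))))
  exact_mod_cast h3

/-- One cap moves the support off the generic points. -/
theorem step [NoetherianSpace X] {A : X.Modules} (hA : CohB1.IsAmple A) {L : X.Modules} {c : Bivar.OpCl 1 X δX}
    (hc : Bivar.IsC1Class L c) (hX : Cyc.IsSetup X δX) (s : Bivar.OSq X δX) (k : ℤ) {T : Set X} (hT : IsClosed T)
    (α : AlgebraicCycle s.Y ℤ) (hα : α ∈ Cyc.Zk s.Y s.δ k) (hαT : ∀ y, α y ≠ 0 → s.g y ∈ T) :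
    ∃ (T' : Set X), IsClosed T' ∧ (∀ e : ℕ, (e : WithBot ℕ∞) ≤ topologicalKrullDim T' →
        ((e + 1 : ℕ) : WithBot ℕ∞) ≤ topologicalKrullDim T) ∧
      ∃ (γ : AlgebraicCycle s.Y ℤ) (hγ : γ ∈ Cyc.Zk s.Y s.δ (k - 1)), (∀ y, γ y ≠ 0 → s.g y ∈ T') ∧
        c.op s k (ChowOps.cl α hα) = ChowOps.cl γ hγ := by
  classical
  obtain ⟨hL, hcl⟩ := hc
  obtain ⟨S, hSf, hSc, hSi, hSu⟩ := NoetherianSpace.exists_finite_set_isClosed_irreducible hT
  haveI := hSf.to_subtype
  let gp : S → X := fun C => (hSi C.1 C.2).genericPoint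
  obtain ⟨U, e, hUE, he⟩ := exists_frame_near hA hL (Set.range gp) (Set.finite_range gp)
  refine ⟨T \ U, hT.sdiff U.2, fun n hn => dim_add_one_le hT (hT.sdiff U.2) Set.sdiff_subset hSc hSu hSi
    (fun C hC h => h.2 (hUE ⟨⟨C, hC⟩, rfl⟩)) (Or.inr hn), ?_⟩
  haveI := s.lft
  obtain ⟨δY, hYs, hcY⟩ := Groth.L22.Cyc.exists_setup s.g hX
  obtain rfl := Groth.L22.Bundle.delta_unique hcY s.compat
  haveI := hYs.1
  have hM := Groth.L18.Ample.isInvertible_pullback s.g hL
  have heY : IsFrame ((Scheme.Modules.pullback s.g).obj L) (s.g ⁻¹ᵁ U) (pull s.g L U e) := IsFrame.pullback s.g L he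
  obtain ⟨w, hw⟩ := Groth.L16.BivarOps.exists_sec hM
  let v : (ξ : s.Y) → Cyc.secFibre ((Scheme.Modules.pullback s.g).obj L) ξ := fun ξ =>
    if hξ : ξ ∈ s.g ⁻¹ᵁ U then
      Groth.L22.C1.mk _ (((Scheme.Modules.pullback s.g).obj L).presheaf.germ (s.g ⁻¹ᵁ U) ξ hξ (pull s.g L U e))
    else w ξ
  have hv : ∀ ξ, v ξ ≠ 0 := fun ξ => by
    simp only [v]
    split_ifs with hξ
    · exact Groth.L22.C1.mk_gen_ne_zero hM (Groth.L22.C1.isGen_germ heY hξ)
    · exact hw ξ
  obtain ⟨γ, hγ⟩ := Groth.L22.C1.exists_cycle_c1Cap hYs.2.2 hM α v hv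
  have hγm : γ ∈ Cyc.Zk s.Y s.δ (k - 1) := Groth.L16.BivarOps.c1_mem hα hγ
  refine ⟨γ, hγm, fun y hy => ?_, hcl s k α hα v hv γ hγ hγm⟩
  rw [hγ] at hy
  obtain ⟨ξ, hξ⟩ : ∃ ξ, α ξ * Cyc.secDivFun s.δ ((Scheme.Modules.pullback s.g).obj L) ξ (v ξ) y ≠ 0 := by
    by_contra hcon
    push Not at hcon
    exact hy (finsum_eq_zero_of_forall_eq_zero hcon)
  obtain ⟨h1, h2⟩ := mul_ne_zero_iff.1 hξ
  have hsp := (Groth.L22.C1.secDivFun_ne_zero s.δ h2).1
  refine ⟨(hsp.map s.g.continuous).mem_closed hT (hαT ξ h1), fun hyU => h2 ?_⟩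
  have hξU : ξ ∈ s.g ⁻¹ᵁ U := hsp.mem_open (s.g ⁻¹ᵁ U).2 hyU
  simp only [v, dif_pos hξU]
  exact secDivFun_frame_eq_zero hYs.2.2 hM heY ξ y hξU hyU

end Groth.L22.C1Chain
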